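import Cfsg.Agent.H0.TC
set_option maxRecDepth 100000
namespace H0.TCM234
open H0
noncomputable def r0 : TC.WTr := (.node (.node (.node (.node (.node (.node (.leaf [0] 0 0 false) (.leaf [5] 4 0 false)) (.leaf [0, 2, 0, 2, 0] 11 1 false)) (.node (.node (.leaf [3, 1, 3, 1, 3] 14 1 true) (.leaf [4] 4 1 false)) (.leaf [0, 3, 0, 3, 0] 11 0 true))) (.node (.node (.node (.leaf [5, 0, 3] 8 2 false) (.leaf [0, 3, 0] 8 3 false)) (.leaf [3] 2 0 false)) (.node (.leaf [1] 1 0 false) (.leaf [5] 4 0 false)))) (.node (.node (.node (.node (.leaf [1, 0, 1] 9 0 false) (.leaf [5] 4 0 false)) (.leaf [3] 2 0 false)) (.node (.leaf [5, 3, 1, 2, 4] 17 4 false) (.leaf [1, 2, 4, 1, 5] 17 0 false))) (.node (.node (.node (.leaf [3, 0, 5] 8 0 false) (.leaf [3, 1, 2, 4, 1] 17 5 false)) (.leaf [0, 5, 0] 8 1 false)) (.node (.leaf [3] 2 0 false) (.leaf [1, 5, 3, 1, 2] 17 3 false))))) (.node (.node (.node (.node (.node (.leaf [3, 0, 3, 0, 3] 11 1 true)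 (.leaf [5] 4 0 false)) (.leaf [3] 2 0 false)) (.node (.node (.leaf [0, 1, 0] 9 1 false) (.leaf [4] 4 1 false)) (.leaf [0, 2, 0, 3, 0, 2, 0] 12 3 false))) (.node (.node (.node (.leaf [2, 0, 4] 8 1 true) (.leaf [5, 5] 6 0 true)) (.leaf [2] 2 1 false)) (.node (.leaf [1] 1 0 false) (.leaf [0, 2, 0] 8 0 true)))) (.node (.node (.node (.node (.leaf [4, 0, 2] 8 3 true) (.leaf [4] 4 1 false)) (.leaf [3] 2 0 false)) (.node (.leaf [1] 1 0 false) (.leaf [2] 2 1 false))) (.node (.node (.node (.leaf [1] 1 0 false) (.leaf [4] 4 1 false)) (.leaf [3, 3] 7 0 true)) (.node (.leaf [4, 1, 5, 3, 1] 17 2 false) (.leaf [4, 4] 6 0 false))))))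
noncomputable def tS : Tr := (.leaf (nat_lit 0xff4e256ad8d756ff255f79abc657ffaba64c254c58ff877a255d5d59ff769d9e39145aff8cb7787f136bff38124b6e886cff1249cf8a796dffca9c3612cf6effbd8b1247de6fff3f3e3d3c1132ff535123002b33ff616400342a44ff292827260045ff445321312500ff000014131211))
noncomputable def tJ : Tr := (.leaf (nat_lit 0x40295006509000352003291430129003103141a2100130b040290200509010202000293030009000100000822010280130008000100000800011100800770000))
noncomputable def tQ : Tr := (.leaf (nat_lit 0x0))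
noncomputable def tR : TC.WTr := r0
def hl : List ℕ := [4, 5, 5, 4]
def B : List (List ℕ) := [[0, 0], [1, 1], [2, 3], [3, 2], [4, 5], [5, 4], [4, 4, 4], [2, 2, 2], [0, 3, 0, 5], [0, 1, 0, 1], [0, 1, 0, 1], [0, 2, 0, 2, 0, 2], [0, 2, 0, 3, 0, 2, 0, 3], [0, 3, 0, 3, 0, 3], [1, 2, 1, 2, 1, 2], [1, 2, 1, 3, 1, 2, 1, 3], [1, 3, 1, 3, 1, 3], [3, 1, 2, 4, 1, 5]]
def subs : List (List ℕ) := [[4], [5]]
def ex : List (List ℕ) := []
def inv (x : ℕ) : ℕ := [0, 1, 3, 2, 5, 4].getD x 0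
noncomputable def rS : ℕ → ℕ := rowOf tS (nat_lit 8) (nat_lit 255) (nat_lit 56) (nat_lit 72057594037927935)
noncomputable def rJ : ℕ → ℕ := rowOf tJ (nat_lit 8) (nat_lit 255) (nat_lit 32) (nat_lit 4294967295)
noncomputable def C : TC.Cfg where
  S := look rS (nat_lit 8) (nat_lit 255)
  J := look rJ (nat_lit 4) (nat_lit 15)
  Q := lookQ tQ (nat_lit 8) (nat_lit 1) (nat_lit 1)
  R := tR.get
  hl := fun x => hl.contains x
  n := (nat_lit 16)
  M := (nat_lit 16)
  top := (nat_lit 224)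
  nl := (nat_lit 6)
  need := (nat_lit 6)
  nr := (nat_lit 7)
theorem k0 : TC.chkRange C 0 1 = true := by decide +kernel
theorem rows0 : ∀ c < (0 + 1) * 64, c < C.M → TC.chkRow C c = true :=
  TC.rows_step (TC.rows_zero C) k0
theorem main {G : Type*} [Group G] (g : ℕ → G) (hB : ∀ r ∈ B, ev g r = 1) (H : Subgroup G)
    (hH : ∀ w ∈ subs, ev g w ∈ H) :
    H.relIndex (Subgroup.closure (g '' {x | x < 6})) ≠ 0 ∧
      H.relIndex (Subgroup.closure (g '' {x | x < 6})) ≤ 16 :=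
  TC.index_le C B subs ex inv hl tR.hint rfl (by decide +kernel) (by decide +kernel)
    (TC.rows_done rows0 (by decide +kernel)) g hB H hH
end H0.TCM234
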